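import Cfsg.Agent.H357.Sp.Defs

/-!
# Spectra of alternating (`ε = 2`) and symmetric (`ε = 0`) groups (helper357, TEAM SPEC-ALT)
-/

set_option autoImplicit false

namespace Cfsg.Agent.H357.Sp

/-- `G` has the spectrum of `Alt n` (`ε = 2`) resp. `Sym n` (`ε = 0`) -/
structure Spec (ε n : ℕ) (G : Type*) [Group G] : Prop where
  up : ∀ x : G, W (orderOf x) + (if Even (orderOf x) then ε else 0) ≤ n
  down : ∀ k : ℕ, 0 < k → W k + (if Even k then ε else 0) ≤ n → ∃ x : G, orderOf x = k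

/-- `G / N` is the alternating or the symmetric group of degree `m` -/
def Top (m : ℕ) {G : Type*} [Group G] (N : Subgroup G) [N.Normal] : Prop :=
  Nonempty ((G ⧸ N) ≃* alternatingGroup (Fin m)) ∨ Nonempty ((G ⧸ N) ≃* Equiv.Perm (Fin m))

/-- the conclusion of the rows for small degrees -/
def Row (ε n p : ℕ) : Prop :=
  ∀ (G : Type) [Group G] [Finite G], Spec ε n G → ∃ (N : Subgroup G) (_ : N.Normal), Group.IsSolvable ↥N ∧
    ∃ m, p ≤ m ∧ m ≤ n ∧ Top m N

end Cfsg.Agent.H357.Sp
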